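import Mathlib

/-!
# Tables for the forty points of the symplectic space over three elements and of the unitary space over four
-/

set_option autoImplicit false
set_option synthInstance.maxSize 4096
set_option maxRecDepth 10000

namespace Cfsg.Agent.Classical.UFourTwo

/-- A digit of a number. -/
def dig (n b k : ℕ) : ℕ := n / b ^ k % b

/-- The points of the projective symplectic space, encoded. -/
def ptsK : ℕ := 21482224996186430586449328900045676311901437972607479440694935343685589785566

/-- The non-isotropic points of the projective unitary space, encoded. -/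
def ptsF : ℕ := 1882592230195122628125093055949643580075937879717382185870180891736304648908587803413324778180672

/-- The point and scalar of a vector, encoded. -/
def findKTable : ℕ := 486419170486421107675928599646196691659735690897662196024054803260866829480569901163494595873563454758883732038424114761239480487292391313158416804121647574360042392234639494187644925843552482560

/-- The point and scalar of a non-isotropic vector, encoded. -/
def findFTable : ℕ := 684719428747724080957681556989838345599220615157792195565894493805172313407200939483483693576323092607239202374366922403415318962735959048997636615001603936093589364691458215927108693374435244268178977870418238749932557368271688956458718600103383311046781325725236874900647732256317588548793223590833577004570074792306555595543106635499257433640088800288696339566980109235464690659036427913298364220825735747673945948480049328676757471098777875940721495216575171452980371967691961108127143408880563045133100694184529954010358215406125415754399661311504208532923662200634245314752788527839138875819679263100160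

/-- The coordinates of the symplectic points. -/
def pK (i k : ℕ) : ℕ := dig (dig ptsK 81 i) 3 k

/-- The coordinates of the unitary points. -/
def pF (i k : ℕ) : ℕ := dig (dig ptsF 256 i) 4 k

/-- Look a vector up. -/
def findK (x : ℕ → ℕ) : ℕ := dig findKTable 256 (x 0 + 3 * x 1 + 9 * x 2 + 27 * x 3)

/-- Look a non-isotropic vector up. -/
def findF (x : ℕ → ℕ) : ℕ := dig findFTable 256 (x 0 + 4 * x 1 + 16 * x 2 + 64 * x 3)

/-- Multiplication of the field with four elements, on exponents. -/
def mul4 (a b : ℕ) : ℕ := if a = 0 ∨ b = 0 then 0 else (a + b - 2) % 3 + 1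

/-- The symplectic form. -/
def formK (x y : ℕ → ℕ) : ℕ := (x 2 * y 0 + x 3 * y 1 + 2 * (x 0 * y 2) + 2 * (x 1 * y 3)) % 3

/-- The Hermitian form. -/
def formF (x y : ℕ → ℕ) : ℕ :=
  mul4 (x 0) (mul4 (y 0) (y 0)) ^^^ mul4 (x 1) (mul4 (y 1) (y 1)) ^^^ mul4 (x 2) (mul4 (y 2) (y 2)) ^^^
    mul4 (x 3) (mul4 (y 3) (y 3))

/-- The symplectic transvection at a point. -/
def imK (i j k : ℕ) : ℕ := (pK j k + formK (pK j) (pK i) * pK i k) % 3

/-- The unitary reflection at a point, corrected by a scalar. -/
def imF (i j k : ℕ) : ℕ := mul4 3 (pF j k ^^^ mul4 (mul4 3 (formF (pF j) (pF i))) (pF i k))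

/-- The common permutation. -/
def perm (i j : ℕ) : ℕ := findK (imK i j) / 4

theorem table_K : ∀ i < 40, ∀ j < 40, perm i j < 40 ∧ (findK (imK i j) % 4 = 1 ∨ findK (imK i j) % 4 = 2) ∧
    ∀ k < 4, imK i j k = findK (imK i j) % 4 * pK (perm i j) k % 3 := by
  decide +kernel

theorem table_F : ∀ i < 40, ∀ j < 40, findF (imF i j) / 4 = perm i j ∧ findF (imF i j) % 4 ≠ 0 ∧
    ∀ k < 4, imF i j k = mul4 (findF (imF i j) % 4) (pF (perm i j) k) := by
  decide +kernel

theorem cover_K : ∀ a < 3, ∀ b < 3, ∀ c < 3, ∀ d < 3, (a ≠ 0 ∨ b ≠ 0 ∨ c ≠ 0 ∨ d ≠ 0) →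
    dig findKTable 256 (a + 3 * b + 9 * c + 27 * d) / 4 < 40 ∧
      a = dig findKTable 256 (a + 3 * b + 9 * c + 27 * d) % 4 * pK (dig findKTable 256 (a + 3 * b + 9 * c + 27 * d) / 4) 0 % 3 ∧
      b = dig findKTable 256 (a + 3 * b + 9 * c + 27 * d) % 4 * pK (dig findKTable 256 (a + 3 * b + 9 * c + 27 * d) / 4) 1 % 3 ∧
      c = dig findKTable 256 (a + 3 * b + 9 * c + 27 * d) % 4 * pK (dig findKTable 256 (a + 3 * b + 9 * c + 27 * d) / 4) 2 % 3 ∧
      d = dig findKTable 256 (a + 3 * b + 9 * c + 27 * d) % 4 * pK (dig findKTable 256 (a + 3 * b + 9 * c + 27 * d) / 4) 3 % 3 := by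
  decide +kernel

theorem cover_F : ∀ a < 4, ∀ b < 4, ∀ c < 4, ∀ d < 4,
    mul4 a (mul4 a a) ^^^ mul4 b (mul4 b b) ^^^ mul4 c (mul4 c c) ^^^ mul4 d (mul4 d d) ≠ 0 →
    dig findFTable 256 (a + 4 * b + 16 * c + 64 * d) / 4 < 40 ∧
      a = mul4 (dig findFTable 256 (a + 4 * b + 16 * c + 64 * d) % 4) (pF (dig findFTable 256 (a + 4 * b + 16 * c + 64 * d) / 4) 0) ∧
      b = mul4 (dig findFTable 256 (a + 4 * b + 16 * c + 64 * d) % 4) (pF (dig findFTable 256 (a + 4 * b + 16 * c + 64 * d) / 4) 1) ∧
      c = mul4 (dig findFTable 256 (a + 4 * b + 16 * c + 64 * d) % 4) (pF (dig findFTable 256 (a + 4 * b + 16 * c + 64 * d) / 4) 2) ∧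
      d = mul4 (dig findFTable 256 (a + 4 * b + 16 * c + 64 * d) % 4) (pF (dig findFTable 256 (a + 4 * b + 16 * c + 64 * d) / 4) 3) := by
  decide +kernel

theorem point_K : ∀ i < 40, (∃ k < 4, pK i k ≠ 0) ∧ ∀ j < 40, ∀ c < 3, (∀ k < 4, pK i k = c * pK j k % 3) → i = j := by
  decide +kernel

theorem point_F : ∀ i < 40, formF (pF i) (pF i) = 1 ∧
    ∀ j < 40, ∀ c < 4, (∀ k < 4, pF i k = mul4 c (pF j k)) → i = j := by
  decide +kernel

end Cfsg.Agent.Classical.UFourTwo
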