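import Cfsg.Prelude.Def_Classical
import Cfsg.Agent.Lib.Classical.UFourTwo.Tables
import Cfsg.Agent.Lib.Classical.SpGeneration
import Cfsg.Agent.Lib.Classical.SymplecticCount
import Cfsg.Agent.Lib.Classical.UnitaryOrders
import Cfsg.Agent.Lib.Classical.UnitaryCount

/-!
# The isomorphism of the unitary group in dimension four over four elements with a symplectic group over three
-/

set_option autoImplicit false
set_option linter.unusedSectionVars false

namespace Cfsg.Agent.Classical.UFourTwo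

open Matrix

/-- A group whose matrices permute a family of lines acts on the index set. -/
theorem exists_line_action {G ι L : Type*} [Group G] [Fintype ι] [DecidableEq ι] [Field L]
    (M : G →* Matrix ι ι L) (v : Fin 40 → ι → L) (hne : ∀ a, v a ≠ 0) (huniq : ∀ a b, ∀ c : L, v a = c • v b → a = b)
    (hcl : ∀ g a, ∃ b, ∃ c : L, M g *ᵥ v a = c • v b) :
    ∃ ρ : G →* Equiv.Perm (Fin 40), ∀ g a b, (∃ c : L, M g *ᵥ v a = c • v b) ↔ ρ g a = b := by
  choose f c hf using hcl
  have hc : ∀ g a, c g a ≠ 0 := fun g a e => hne a (by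
    have := hf g a
    rw [e, zero_smul] at this
    have e' := congrArg (fun w => M g⁻¹ *ᵥ w) this
    simpa [Matrix.mulVec_mulVec, ← map_mul] using e')
  have hu : ∀ g a b (d : L), M g *ᵥ v a = d • v b → f g a = b := fun g a b d e =>
    huniq _ _ ((c g a)⁻¹ * d) (by rw [← smul_smul, ← e, hf, smul_smul, inv_mul_cancel₀ (hc g a), one_smul])
  have hmul : ∀ g g' a, f (g * g') a = f g (f g' a) := fun g g' a => hu _ _ _ (c g' a * c g (f g' a)) (by
    rw [map_mul, ← Matrix.mulVec_mulVec, hf, Matrix.mulVec_smul, hf, smul_smul])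
  have h1 : ∀ a, f 1 a = a := fun a => hu _ _ _ 1 (by rw [map_one, Matrix.one_mulVec, one_smul])
  let φ : G →* Function.End (Fin 40) :=
    { toFun := f, map_one' := funext h1, map_mul' := fun g g' => funext (hmul g g') }
  refine ⟨MonoidHom.mk' (fun g => ⟨f g, f g⁻¹, fun a => by rw [← hmul, inv_mul_cancel, h1],
    fun a => by rw [← hmul, mul_inv_cancel, h1]⟩) (fun g g' => Equiv.ext fun a => hmul g g' a),
    fun g a b => ⟨fun ⟨d, hd⟩ => hu g a b d hd, fun e => ⟨c g a, e ▸ hf g a⟩⟩⟩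

/-! ### The symplectic side -/

section Sp

variable {K : Type*} [Field K] [Fintype K]

/-- Positions of the coordinates. -/
def pos : Fin 2 ⊕ Fin 2 → ℕ := Sum.elim (fun i => i.val) fun i => 2 + i.val

/-- The vector with given residues. -/
def vK (x : ℕ → ℕ) : Fin 2 ⊕ Fin 2 → K := fun t => (x (pos t) : K)

theorem cast_mod (hK : Fintype.card K = 3) (n : ℕ) : ((n % 3 : ℕ) : K) = n := by
  have h3 : (3 : K) = 0 := by
    have := FiniteField.cast_card_eq_zero K
    rw [hK] at this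
    exact_mod_cast this
  conv_rhs => rw [← Nat.mod_add_div n 3]
  push_cast
  rw [h3, zero_mul, add_zero]

theorem form_vK (hK : Fintype.card K = 3) (x y : ℕ → ℕ) :
    Cfsg.sympForm 2 K (vK x) (vK y) = (formK x y : K) := by
  have h3 : (3 : K) = 0 := by
    have := FiniteField.cast_card_eq_zero K
    rw [hK] at this
    exact_mod_cast this
  rw [formK, cast_mod hK]
  simp [Cfsg.sympForm, vK, pos, Matrix.J, dotProduct, Matrix.mulVec, Fintype.sum_sum_type, Fin.sum_univ_two]
  linear_combination (-(x 0 : K) * y 2 - (x 1 : K) * y 3) * h3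

theorem cast_surj (hK : Fintype.card K = 3) : ∀ z : K, ∃ n : ℕ, n < 3 ∧ (n : K) = z := by
  have : Fact (Nat.Prime 3) := ⟨Nat.prime_three⟩
  intro z
  obtain ⟨y, rfl⟩ := (ZMod.ringEquivOfPrime K Nat.prime_three hK).surjective z
  exact ⟨y.val, ZMod.val_lt y, by rw [← map_natCast (ZMod.ringEquivOfPrime K Nat.prime_three hK), ZMod.natCast_zmod_val]⟩

theorem cast_inj (hK : Fintype.card K = 3) {m n : ℕ} (hm : m < 3) (hn : n < 3) (e : (m : K) = n) : m = n := by
  have : Fact (Nat.Prime 3) := ⟨Nat.prime_three⟩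
  rw [← map_natCast (ZMod.ringEquivOfPrime K Nat.prime_three hK), ← map_natCast (ZMod.ringEquivOfPrime K Nat.prime_three hK)] at e
  have := congrArg ZMod.val ((ZMod.ringEquivOfPrime K Nat.prime_three hK).injective e)
  rwa [ZMod.val_natCast_of_lt hm, ZMod.val_natCast_of_lt hn] at this

theorem pK_lt (i k : ℕ) : pK i k < 3 := Nat.mod_lt _ (by norm_num)

theorem vK_zero_iff (hK : Fintype.card K = 3) {i : ℕ} (hi : i < 40) : (vK (pK i) : Fin 2 ⊕ Fin 2 → K) ≠ 0 := by
  obtain ⟨k, hk, hne⟩ := (point_K i hi).1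
  intro e
  refine hne (cast_inj hK (pK_lt i k) (by norm_num) ?_)
  rw [Nat.cast_zero]
  rcases (show k = 0 ∨ k = 1 ∨ k = 2 ∨ k = 3 by omega) with rfl | rfl | rfl | rfl
  exacts [congrFun e (Sum.inl 0), congrFun e (Sum.inl 1), congrFun e (Sum.inr 0), congrFun e (Sum.inr 1)]

theorem vK_uniq (hK : Fintype.card K = 3) {i j : ℕ} (hi : i < 40) (hj : j < 40) {c : K}
    (e : (vK (pK i) : Fin 2 ⊕ Fin 2 → K) = c • vK (pK j)) : i = j := by
  obtain ⟨n, hn, rfl⟩ := cast_surj hK c
  refine (point_K i hi).2 j hj n hn fun k hk => cast_inj hK (pK_lt i k) (Nat.mod_lt _ (by norm_num)) ?_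
  rw [cast_mod hK, Nat.cast_mul]
  rcases (show k = 0 ∨ k = 1 ∨ k = 2 ∨ k = 3 by omega) with rfl | rfl | rfl | rfl
  exacts [congrFun e (Sum.inl 0), congrFun e (Sum.inl 1), congrFun e (Sum.inr 0), congrFun e (Sum.inr 1)]

theorem vK_cover (hK : Fintype.card K = 3) (w : Fin 2 ⊕ Fin 2 → K) (hw : w ≠ 0) :
    ∃ b : Fin 40, ∃ c : K, w = c • vK (pK b) := by
  obtain ⟨a, ha, ea⟩ := cast_surj hK (w (Sum.inl 0))
  obtain ⟨b, hb, eb⟩ := cast_surj hK (w (Sum.inl 1))
  obtain ⟨c, hc, ec⟩ := cast_surj hK (w (Sum.inr 0))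
  obtain ⟨d, hd, ed⟩ := cast_surj hK (w (Sum.inr 1))
  have hne : a ≠ 0 ∨ b ≠ 0 ∨ c ≠ 0 ∨ d ≠ 0 := by
    by_contra hcon
    push Not at hcon
    obtain ⟨rfl, rfl, rfl, rfl⟩ := hcon
    refine hw (funext fun t => ?_)
    rw [Nat.cast_zero] at ea eb ec ed
    rcases t with t | t <;> fin_cases t
    exacts [ea.symm, eb.symm, ec.symm, ed.symm]
  obtain ⟨hlt, e0, e1, e2, e3⟩ := cover_K a ha b hb c hc d hd hne
  refine ⟨⟨_, hlt⟩, ((dig findKTable 256 (a + 3 * b + 9 * c + 27 * d) % 4 : ℕ) : K), funext fun t => ?_⟩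
  simp only [Pi.smul_apply, smul_eq_mul, vK]
  rw [← Nat.cast_mul, ← cast_mod hK]
  rcases t with t | t <;> fin_cases t
  · exact ea.symm.trans (congrArg (Nat.cast : ℕ → K) e0)
  · exact eb.symm.trans (congrArg (Nat.cast : ℕ → K) e1)
  · exact ec.symm.trans (congrArg (Nat.cast : ℕ → K) e2)
  · exact ed.symm.trans (congrArg (Nat.cast : ℕ → K) e3)

/-- The action of the symplectic group on its forty points. -/
theorem exists_sp_action (hK : Fintype.card K = 3) :
    ∃ ρ : Matrix.symplecticGroup (Fin 2) K →* Equiv.Perm (Fin 40), ∀ (g : Matrix.symplecticGroup (Fin 2) K) (a b : Fin 40),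
      (∃ c : K, (g : Matrix (Fin 2 ⊕ Fin 2) (Fin 2 ⊕ Fin 2) K) *ᵥ vK (pK a) = c • vK (pK b)) ↔ ρ g a = b := by
  refine exists_line_action (Matrix.symplecticGroup (Fin 2) K).subtype (fun a : Fin 40 => vK (pK a))
    (fun a => vK_zero_iff hK a.isLt) (fun a b c e => Fin.ext (vK_uniq hK a.isLt b.isLt e)) fun g a => ?_
  refine vK_cover hK _ fun e => vK_zero_iff hK a.isLt ?_
  have e' := congrArg (fun w => ((g⁻¹ : Matrix.symplecticGroup (Fin 2) K) : Matrix (Fin 2 ⊕ Fin 2) (Fin 2 ⊕ Fin 2) K) *ᵥ w) e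
  simpa only [Submonoid.coe_subtype, Matrix.mulVec_mulVec, ← Submonoid.coe_mul, inv_mul_cancel, Submonoid.coe_one,
    Matrix.one_mulVec, Matrix.mulVec_zero] using e'

/-- The generators act by the tables. -/
theorem sp_trans_action (hK : Fintype.card K = 3) (i : Fin 40) {g : Matrix.symplecticGroup (Fin 2) K}
    (hg : ∀ x, (g : Matrix (Fin 2 ⊕ Fin 2) (Fin 2 ⊕ Fin 2) K) *ᵥ x = x + Cfsg.sympForm 2 K x (vK (pK i)) • vK (pK i))
    {ρ : Matrix.symplecticGroup (Fin 2) K →* Equiv.Perm (Fin 40)}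
    (hρ : ∀ (g : Matrix.symplecticGroup (Fin 2) K) (a b : Fin 40),
      (∃ c : K, (g : Matrix (Fin 2 ⊕ Fin 2) (Fin 2 ⊕ Fin 2) K) *ᵥ vK (pK a) = c • vK (pK b)) ↔ ρ g a = b)
    (a : Fin 40) : ρ g a = ⟨perm i a, (table_K i i.isLt a a.isLt).1⟩ := by
  refine (hρ g a _).mp ⟨((findK (imK i a) % 4 : ℕ) : K), funext fun t => ?_⟩
  rw [hg, form_vK hK]
  simp only [Pi.add_apply, Pi.smul_apply, smul_eq_mul, vK]
  have hk : pos t < 4 := by rcases t with t | t <;> fin_cases t <;> simp [pos]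
  have e := congrArg (Nat.cast : ℕ → K) ((table_K i i.isLt a a.isLt).2.2 (pos t) hk)
  rw [imK, cast_mod hK, cast_mod hK, Nat.cast_mul, Nat.cast_add, Nat.cast_mul] at e
  exact e

end Sp

/-! ### The unitary side -/

section Unitary

variable {F : Type*} [Field F] [Fintype F]

theorem exists_omega (hF : Fintype.card F = 4) : ∃ w : F, w * w + w + 1 = 0 := by
  classical
  obtain ⟨u, hu⟩ := exists_prime_orderOf_dvd_card' (G := Fˣ) 3 (hp := ⟨Nat.prime_three⟩)
    (by rw [Nat.card_units, Nat.card_eq_fintype_card, hF])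
  have hu3 : (u : F) ^ 3 = 1 := by
    rw [← Units.val_pow_eq_pow_val, ← hu, pow_orderOf_eq_one, Units.val_one]
  have hu1 : (u : F) ≠ 1 := fun e => by
    rw [Units.val_eq_one] at e
    rw [e, orderOf_one] at hu
    omega
  refine ⟨u, (mul_eq_zero.mp (show ((u : F) - 1) * ((u : F) * u + u + 1) = 0 by linear_combination hu3)).resolve_left
    (sub_ne_zero.mpr hu1)⟩

theorem two_zero (hF : Fintype.card F = 4) : (2 : F) = 0 := by
  have := FiniteField.cast_card_eq_zero F
  rw [hF] at this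
  have e : (2 : F) * 2 = 0 := by rw [← this]; norm_num
  exact mul_self_eq_zero.mp e

variable {w : F}

/-- The element with a given exponent code. -/
def el (w : F) (n : ℕ) : F := if n = 0 then 0 else w ^ (n - 1)

theorem el_facts (hF : Fintype.card F = 4) (hw : w * w + w + 1 = 0) :
    (∀ a b, a < 4 → b < 4 → el w (mul4 a b) = el w a * el w b) ∧
      (∀ a b, a < 4 → b < 4 → el w (a ^^^ b) = el w a + el w b) ∧
      (∀ a b, a < 4 → b < 4 → el w a = el w b → a = b) ∧ ∀ z : F, ∃ n < 4, el w n = z := by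
  classical
  have h2 := two_zero hF
  have hw0 : w ≠ 0 := fun e => one_ne_zero (α := F) (by rw [e] at hw; linear_combination hw)
  have hw1 : w ≠ 1 := fun e => one_ne_zero (α := F) (by rw [e] at hw; linear_combination hw - h2)
  have hw2 : w * w ≠ 1 := fun e => hw0 (by linear_combination hw - e - h2)
  have hinj : ∀ a b, a < 4 → b < 4 → el w a = el w b → a = b := by
    intro a b ha hb e
    interval_cases a <;> interval_cases b <;> simp [el] at e ⊢
    all_goals first
      | exact hw0 e | exact hw0 e.symm | exact hw1 e | exact hw1 e.symm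
      | exact hw0 (mul_self_eq_zero.mp (by linear_combination e)) | exact hw0 (mul_self_eq_zero.mp (by linear_combination -e))
      | exact hw2 (by linear_combination e) | exact hw2 (by linear_combination -e)
      | exact hw1 (mul_left_cancel₀ hw0 (by linear_combination e))
      | exact hw1 (mul_left_cancel₀ hw0 (by linear_combination -e))
      | exact e.elim hw1 (fun e => hw1 (by linear_combination e - h2))
  refine ⟨?_, ?_, hinj, ?_⟩
  · intro a b ha hb
    interval_cases a <;> interval_cases b <;> simp [el, mul4] <;>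
      first
      | ring1
      | linear_combination (1 - w) * hw
      | linear_combination (w - 1) * hw
      | linear_combination (-(w ^ 2) + w) * hw
      | linear_combination (w ^ 2 - w) * hw
  · intro a b ha hb
    interval_cases a <;> interval_cases b <;> simp [el] <;>
      first
      | ring1
      | linear_combination hw
      | linear_combination -hw
      | linear_combination h2
      | linear_combination -h2
      | linear_combination w * h2
      | linear_combination -(w * h2)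
      | linear_combination w * w * h2
      | linear_combination -(w * w * h2)
      | linear_combination hw - h2
      | linear_combination hw - w * h2
      | linear_combination hw - w * w * h2
      | linear_combination -hw + h2
      | linear_combination -hw + w * h2
      | linear_combination -hw + w * w * h2
  · have hb : Function.Bijective fun n : Fin 4 => el w n :=
      (Fintype.bijective_iff_injective_and_card _).mpr
        ⟨fun a b e => Fin.ext (hinj a b a.isLt b.isLt e), by rw [Fintype.card_fin, hF]⟩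
    intro z
    obtain ⟨n, hn⟩ := hb.2 z
    exact ⟨n, n.isLt, hn⟩

/-- The vector with given codes. -/
def vF (w : F) (x : ℕ → ℕ) : Fin 4 → F := fun t => el w (x t)

theorem mul4_lt (a b : ℕ) : mul4 a b < 4 := by
  unfold mul4
  split_ifs <;> omega

theorem xor_lt {a b : ℕ} (ha : a < 4) (hb : b < 4) : a ^^^ b < 4 := Nat.xor_lt_two_pow (n := 2) ha hb

theorem form_vF (hF : Fintype.card F = 4) (hw : w * w + w + 1 = 0) {x y : ℕ → ℕ} (hx : ∀ k, x k < 4)
    (hy : ∀ k, y k < 4) : Cfsg.hermForm 4 F 2 (vF w x) (vF w y) = el w (formF x y) := by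
  obtain ⟨hm, ha, -, -⟩ := el_facts hF hw
  rw [formF, ha _ _ (xor_lt (xor_lt (mul4_lt _ _) (mul4_lt _ _)) (mul4_lt _ _)) (mul4_lt _ _),
    ha _ _ (xor_lt (mul4_lt _ _) (mul4_lt _ _)) (mul4_lt _ _), ha _ _ (mul4_lt _ _) (mul4_lt _ _),
    hm _ _ (hx 0) (mul4_lt _ _), hm _ _ (hx 1) (mul4_lt _ _), hm _ _ (hx 2) (mul4_lt _ _),
    hm _ _ (hx 3) (mul4_lt _ _), hm _ _ (hy 0) (hy 0), hm _ _ (hy 1) (hy 1), hm _ _ (hy 2) (hy 2), hm _ _ (hy 3) (hy 3)]
  simp [Cfsg.hermForm, vF, Fin.sum_univ_four, sq]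

theorem pF_lt (i k : ℕ) : pF i k < 4 := Nat.mod_lt _ (by norm_num)

theorem point_norm (hF : Fintype.card F = 4) (hw : w * w + w + 1 = 0) {i : ℕ} (hi : i < 40) :
    Cfsg.hermForm 4 F 2 (vF w (pF i)) (vF w (pF i)) = 1 := by
  rw [form_vF hF hw (pF_lt i) (pF_lt i), (point_F i hi).1]
  simp [el]

local notation "SU4" => Cfsg.SU 4 F 2

theorem su_mem {g : Matrix.SpecialLinearGroup (Fin 4) F} : g ∈ Cfsg.SU 4 F 2 ↔
    ∀ u v, Cfsg.hermForm 4 F 2 ((g : Matrix (Fin 4) (Fin 4) F) *ᵥ u) ((g : Matrix (Fin 4) (Fin 4) F) *ᵥ v) =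
      Cfsg.hermForm 4 F 2 u v := Iff.rfl

/-- The action of the special unitary group on its forty non-isotropic points. -/
theorem exists_su_action (hF : Fintype.card F = 4) (hw : w * w + w + 1 = 0) :
    ∃ π : SU4 →* Equiv.Perm (Fin 40), ∀ (g : SU4) (a b : Fin 40),
      (∃ c : F, ((g : Matrix.SpecialLinearGroup (Fin 4) F) : Matrix (Fin 4) (Fin 4) F) *ᵥ vF w (pF a) = c • vF w (pF b)) ↔
        π g a = b := by
  obtain ⟨hm, -, hinj, hsurj⟩ := el_facts hF hw
  have hne : ∀ a : Fin 40, vF w (pF a) ≠ 0 := fun a e => by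
    have := point_norm hF hw a.isLt
    rw [e] at this
    simp [Cfsg.hermForm] at this
  refine exists_line_action ((Cfsg.slToMat 4 F).comp (Cfsg.SU 4 F 2).subtype) (fun a : Fin 40 => vF w (pF a)) hne
    (fun a b c e => Fin.ext ?_) fun g a => ?_
  · obtain ⟨n, hn, rfl⟩ := hsurj c
    refine (point_F a a.isLt).2 b b.isLt n hn fun k hk => hinj _ _ (pF_lt _ _) (mul4_lt _ _) ?_
    rw [hm _ _ hn (pF_lt _ _)]
    exact congrFun e ⟨k, hk⟩
  · obtain ⟨y, hy⟩ : ∃ y, y = ((g : Matrix.SpecialLinearGroup (Fin 4) F) : Matrix (Fin 4) (Fin 4) F) *ᵥ vF w (pF a) :=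
      ⟨_, rfl⟩
    have hh : Cfsg.hermForm 4 F 2 y y = 1 := by rw [hy, su_mem.mp g.2, point_norm hF hw a.isLt]
    choose n hn en using fun k => hsurj (y k)
    obtain ⟨x, hx⟩ : ∃ x : ℕ → ℕ, ∀ k, x k = if h : k < 4 then n ⟨k, h⟩ else 0 := ⟨_, fun _ => rfl⟩
    have hx4 : ∀ k, x k < 4 := fun k => by
      rw [hx]
      split_ifs
      exacts [hn _, by norm_num]
    have hyx : y = vF w x := funext fun t => by rw [vF, hx, dif_pos t.isLt, ← en]
    rw [hyx, form_vF hF hw hx4 hx4] at hh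
    have hform : formF x x ≠ 0 := fun e => by rw [e] at hh; simp [el] at hh
    obtain ⟨hlt, e0, e1, e2, e3⟩ := cover_F _ (hx4 0) _ (hx4 1) _ (hx4 2) _ (hx4 3) hform
    refine ⟨⟨_, hlt⟩, el w (dig findFTable 256 (x 0 + 4 * x 1 + 16 * x 2 + 64 * x 3) % 4), ?_⟩
    show _ *ᵥ vF w (pF a) = _
    change Cfsg.slToMat 4 F g *ᵥ vF w (pF a) = _
    rw [show Cfsg.slToMat 4 F g *ᵥ vF w (pF a) = vF w x from hy.symm.trans hyx]
    funext t
    simp only [Pi.smul_apply, smul_eq_mul, vF]
    rw [← hm _ _ (Nat.mod_lt _ (by norm_num)) (pF_lt _ _)]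
    fin_cases t
    exacts [congrArg (el w) e0, congrArg (el w) e1, congrArg (el w) e2, congrArg (el w) e3]

/-- The corrected reflection at a point. -/
theorem exists_reflection (hF : Fintype.card F = 4) (hw : w * w + w + 1 = 0) {i : ℕ} (hi : i < 40) :
    ∃ g ∈ Cfsg.SU 4 F 2, ∀ x, (g : Matrix (Fin 4) (Fin 4) F) *ᵥ x =
      (w * w) • (x + ((w * w) * Cfsg.hermForm 4 F 2 x (vF w (pF i))) • vF w (pF i)) := by
  have h2 := two_zero hF
  have hw3 : w ^ 3 = 1 := by linear_combination (w - 1) * hw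
  obtain ⟨p, e, σ, -, -, -, -, hσ⟩ := Cfsg.Agent.Classical.exists_usigma (F := F) (q := 2) (by rw [hF]; norm_num)
  obtain ⟨v, hv⟩ : ∃ v, v = vF w (pF i) := ⟨_, rfl⟩
  have hvv : Cfsg.hermForm 4 F 2 v v = 1 := hv ▸ point_norm hF hw hi
  obtain ⟨φ, hφ⟩ : ∃ φ : Fin 4 → F, φ = σ ∘ v := ⟨_, rfl⟩
  have hdot : ∀ x, φ ⬝ᵥ x = Cfsg.hermForm 4 F 2 x v := fun x => by
    rw [hσ.hermForm_eq, hφ, dotProduct]
    exact Finset.sum_congr rfl fun k _ => mul_comm _ _
  obtain ⟨A, hA⟩ : ∃ A : Matrix (Fin 4) (Fin 4) F, A = (w * w) • (1 + Matrix.vecMulVec ((w * w) • v) φ) := ⟨_, rfl⟩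
  have hdet : A.det = 1 := by
    rw [hA, Matrix.det_smul, Fintype.card_fin, Matrix.vecMulVec_eq Unit, Matrix.det_one_add_replicateCol_mul_replicateRow,
      dotProduct_smul, hdot, hvv, smul_eq_mul, mul_one]
    linear_combination (w ^ 5 + w ^ 2 + (w ^ 7 + w ^ 4 + w)) * hw3 + hw - h2
  have hact : ∀ x, A *ᵥ x = (w * w) • (x + ((w * w) * Cfsg.hermForm 4 F 2 x v) • v) := fun x => by
    rw [hA, Matrix.smul_mulVec, Matrix.add_mulVec, Matrix.one_mulVec, Matrix.vecMulVec_mulVec, hdot]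
    simp [smul_smul, mul_comm]
  refine ⟨⟨A, hdet⟩, su_mem.mpr fun x y => ?_, fun x => hv ▸ hact x⟩
  show Cfsg.hermForm 4 F 2 (A *ᵥ x) (A *ᵥ y) = _
  have hsf := Cfsg.Agent.Classical.semiForm_of_unitary (hσ.isUnitaryForm (n := 4))
  have hh : σ (Cfsg.hermForm 4 F 2 y v) = Cfsg.hermForm 4 F 2 v y := ((hσ.isUnitaryForm (n := 4)).herm v y).symm
  have hs : σ (w * w) = w := by rw [map_mul, hσ.apply_eq]; linear_combination w * hw3
  rw [hact, hact, hsf.smul_left, hsf.smul_right, hsf.add_left, hsf.add_right, hsf.add_right, hsf.smul_left,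
    hsf.smul_left, hsf.smul_right, hsf.smul_right, map_mul σ (w * w) (Cfsg.hermForm 4 F 2 y v), hs, hh, hvv]
  linear_combination (Cfsg.hermForm 4 F 2 x y) * hw3 +
    (Cfsg.hermForm 4 F 2 x v * Cfsg.hermForm 4 F 2 v y * w ^ 4) * hw

/-- The reflection at a point acts by the tables. -/
theorem su_refl_action (hF : Fintype.card F = 4) (hw : w * w + w + 1 = 0) (i : Fin 40) {g : SU4}
    (hg : ∀ x, ((g : Matrix.SpecialLinearGroup (Fin 4) F) : Matrix (Fin 4) (Fin 4) F) *ᵥ x =
      (w * w) • (x + ((w * w) * Cfsg.hermForm 4 F 2 x (vF w (pF i))) • vF w (pF i)))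
    {π : SU4 →* Equiv.Perm (Fin 40)}
    (hπ : ∀ (g : SU4) (a b : Fin 40),
      (∃ c : F, ((g : Matrix.SpecialLinearGroup (Fin 4) F) : Matrix (Fin 4) (Fin 4) F) *ᵥ vF w (pF a) = c • vF w (pF b)) ↔
        π g a = b)
    (a : Fin 40) : π g a = ⟨perm i a, (table_K i i.isLt a a.isLt).1⟩ := by
  obtain ⟨hm, ha, -, -⟩ := el_facts hF hw
  have h3 : el w 3 = w * w := by simp [el, sq]
  refine (hπ g a _).mp ⟨el w (findF (imF i a) % 4), funext fun t => ?_⟩
  rw [hg, form_vF hF hw (pF_lt a) (pF_lt i)]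
  simp only [Pi.add_apply, Pi.smul_apply, smul_eq_mul, vF]
  have hf4 : formF (pF a) (pF i) < 4 :=
    xor_lt (xor_lt (xor_lt (mul4_lt _ _) (mul4_lt _ _)) (mul4_lt _ _)) (mul4_lt _ _)
  rw [← h3, ← hm _ _ (by norm_num) hf4, ← hm _ _ (mul4_lt _ _) (pF_lt _ _), ← ha _ _ (pF_lt _ _) (mul4_lt _ _),
    ← hm _ _ (by norm_num) (xor_lt (pF_lt _ _) (mul4_lt _ _)), ← hm _ _ (Nat.mod_lt _ (by norm_num)) (pF_lt _ _)]
  exact congrArg (el w) ((table_F i i.isLt a a.isLt).2.2 t t.isLt)

theorem card_su (hF : Fintype.card F = 4) : Nat.card SU4 = 25920 ∧ Nat.card (Subgroup.center SU4) = 1 := by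
  obtain ⟨p, e, σ, -, -, -, -, hσ⟩ := Cfsg.Agent.Classical.exists_usigma (F := F) (q := 2) (by rw [hF]; norm_num)
  refine ⟨?_, ?_⟩
  · have h := Cfsg.Agent.Classical.UCount.card_SU hσ (n := 4) (by norm_num)
    rw [Cfsg.Agent.Classical.UCount.card_GU hσ 4, Finset.prod_range_succ, Finset.prod_range_succ,
      Finset.prod_range_succ, Finset.prod_range_succ, Finset.prod_range_zero] at h
    norm_num [Nat.even_iff] at h
    omega
  · rw [Cfsg.Agent.Classical.UCount.card_center_SU hσ (by norm_num)]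
    rfl

end Unitary

variable {F K : Type*} [Field F] [Fintype F] [Field K] [Fintype K]

/-- The exceptional isomorphism. -/
theorem exists_iso (hF : Fintype.card F = 4) (hK : Fintype.card K = 3) :
    Nonempty (Cfsg.PSU 4 F 2 ≃* Cfsg.PSp 2 K) := by
  classical
  obtain ⟨w, hw⟩ := exists_omega hF
  obtain ⟨ρ, hρ⟩ := exists_sp_action hK
  obtain ⟨π, hπ⟩ := exists_su_action hF hw
  obtain ⟨hSU, hZ⟩ := card_su hF
  -- the image of the symplectic group lies in that of the unitary group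
  have hgen : ∀ g, ρ g ∈ π.range := by
    have hle : Subgroup.closure {A : Matrix.symplecticGroup (Fin 2) K | ∃ (v : Fin 2 ⊕ Fin 2 → K) (c : K),
        (A : Matrix (Fin 2 ⊕ Fin 2) (Fin 2 ⊕ Fin 2) K) = Cfsg.sympTransvection 2 v c} ≤ π.range.comap ρ := by
      rw [Subgroup.closure_le]
      rintro A ⟨v, c, hA⟩
      rw [SetLike.mem_coe, Subgroup.mem_comap]
      by_cases hv : v = 0
      · have e : A = 1 := Subtype.ext (hA.trans (by simp [hv, Cfsg.sympTransvection]))
        rw [e, map_one]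
        exact one_mem _
      obtain ⟨b, d, rfl⟩ := vK_cover hK v hv
      obtain ⟨n, -, hn⟩ := cast_surj hK (c * d * d)
      obtain ⟨t, ht⟩ : ∃ t : Matrix.symplecticGroup (Fin 2) K,
          (t : Matrix (Fin 2 ⊕ Fin 2) (Fin 2 ⊕ Fin 2) K) = Cfsg.sympTransvection 2 (vK (pK b)) 1 := by
        refine ⟨Cfsg.Agent.Small.PSpn.eich (vK (pK b)) 0 (-1), ?_⟩
        rw [show ((-1 : K)) = -(1 : K) from rfl]
        exact Cfsg.Agent.Classical.SpGen.eich_eq_trans (m := 2) (vK (pK b)) (1 : K)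
      have hact : ∀ x, (t : Matrix (Fin 2 ⊕ Fin 2) (Fin 2 ⊕ Fin 2) K) *ᵥ x =
          x + Cfsg.sympForm 2 K x (vK (pK b)) • vK (pK b) := fun x => by
        rw [ht, Cfsg.Agent.Lead.Symp.trans_mulVec, one_mul]
      have hpow : ∀ k : ℕ, ∀ x, ((t ^ k : Matrix.symplecticGroup (Fin 2) K) : Matrix (Fin 2 ⊕ Fin 2) (Fin 2 ⊕ Fin 2) K) *ᵥ x =
          x + ((k : K) * Cfsg.sympForm 2 K x (vK (pK b))) • vK (pK b) := by
        intro k
        induction k with
        | zero => intro x; simp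
        | succ k ih =>
          intro x
          rw [pow_succ, Submonoid.coe_mul, ← Matrix.mulVec_mulVec, hact, Matrix.mulVec_add, Matrix.mulVec_smul, ih, ih,
            Cfsg.Agent.Lead.Symp.form_self]
          push_cast
          module
      have hA' : A = t ^ n := Subtype.ext (Matrix.ext_of_mulVec_single fun s => by
        rw [hA, Cfsg.Agent.Lead.Symp.trans_mulVec, hpow, hn]
        have e : ∀ x : Fin 2 ⊕ Fin 2 → K, Cfsg.sympForm 2 K x (d • vK (pK b)) = d * Cfsg.sympForm 2 K x (vK (pK b)) :=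
          fun x => by simp [Cfsg.sympForm, Matrix.mulVec_smul]
        rw [e, smul_smul]
        congr 2
        ring)
      rw [hA', map_pow]
      refine pow_mem ?_ n
      obtain ⟨g, hg, hgact⟩ := exists_reflection hF hw b.isLt
      refine ⟨⟨g, hg⟩, Equiv.ext fun a => ?_⟩
      rw [sp_trans_action hK b hact hρ, su_refl_action hF hw b (g := ⟨g, hg⟩) hgact hπ]
    intro g
    refine hle ?_
    rw [Cfsg.Agent.Classical.SpGen.closure_transvections]
    exact Subgroup.mem_top g
  -- the kernel is central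
  have hker : ∀ g, ρ g = 1 → ∃ z : K, (g : Matrix (Fin 2 ⊕ Fin 2) (Fin 2 ⊕ Fin 2) K) = z • 1 := by
    intro g hg
    have hline : ∀ v : Fin 2 ⊕ Fin 2 → K, ∃ z : K, (g : Matrix (Fin 2 ⊕ Fin 2) (Fin 2 ⊕ Fin 2) K) *ᵥ v = z • v := by
      intro v
      by_cases hv : v = 0
      · exact ⟨0, by simp [hv]⟩
      obtain ⟨b, d, rfl⟩ := vK_cover hK v hv
      obtain ⟨c, hc⟩ := (hρ g b b).mpr (by rw [hg]; rfl)
      exact ⟨c, by rw [Matrix.mulVec_smul, hc, smul_comm]⟩
    obtain ⟨z, hz⟩ := hline fun _ => 1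
    refine ⟨z, Matrix.ext_of_mulVec_single fun s => ?_⟩
    choose μ hμ using fun s => hline (Pi.single s 1)
    have hsum : (fun _ => 1 : Fin 2 ⊕ Fin 2 → K) = ∑ s, Pi.single s 1 := (Finset.univ_sum_single (fun _ => (1 : K))).symm
    have e : (g : Matrix (Fin 2 ⊕ Fin 2) (Fin 2 ⊕ Fin 2) K) *ᵥ (fun _ => 1) = fun s => μ s := by
      rw [hsum, Matrix.mulVec_sum]
      simp only [hμ]
      funext r
      rw [Finset.sum_apply, Finset.sum_eq_single r (fun s _ hs => by simp [hs.symm]) (by simp)]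
      simp
    rw [e] at hz
    have hμz := congrFun hz s
    simp at hμz
    rw [hμ, hμz, Matrix.smul_mulVec, Matrix.one_mulVec]
  have hk2 : Nat.card ρ.ker ≤ 2 := by
    choose z hz using fun g : ρ.ker => hker g.1 g.2
    have hz0 : ∀ g, z g ≠ 0 := fun g e => by
      have hu := (SymplecticGroup.symplectic_det (g.1).2)
      rw [hz g, e, zero_smul, Matrix.det_zero] at hu
      exact not_isUnit_zero hu
    have := Nat.card_le_card_of_injective (fun g : ρ.ker => Units.mk0 (z g) (hz0 g)) fun g g' e => by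
      refine Subtype.ext (Subtype.ext ?_)
      rw [hz g, hz g', show z g = z g' from congrArg Units.val e]
    rwa [Nat.card_units, Nat.card_eq_fintype_card (α := K), hK] at this
  have hSp : Nat.card (Matrix.symplecticGroup (Fin 2) K) = 51840 := by
    rw [Cfsg.Agent.Classical.SpCount.card_symplecticGroup, hK]
    decide
  have hrange : ρ.range ≤ π.range := by
    rintro _ ⟨g, rfl⟩
    exact hgen g
  have hidx := Subgroup.card_mul_index ρ.ker
  rw [Subgroup.index_ker, hSp] at hidx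
  have hπle : Nat.card π.range ≤ 25920 := hSU ▸ Nat.card_le_card_of_surjective _ π.rangeRestrict_surjective
  have hρle := Subgroup.card_le_of_le hrange
  have hρge : 25920 ≤ Nat.card ρ.range := by
    by_contra hlt
    have h2 : Nat.card ρ.ker * Nat.card ρ.range ≤ 2 * Nat.card ρ.range := Nat.mul_le_mul_right _ hk2
    omega
  have heq : ρ.range = π.range := Subgroup.eq_of_le_of_card_ge hrange (by omega)
  have hπinj : Function.Injective π.rangeRestrict :=
    ((Nat.bijective_iff_surjective_and_card _).mpr ⟨π.rangeRestrict_surjective, by omega⟩).1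
  let e1 : Cfsg.SU 4 F 2 ≃* π.range :=
    MulEquiv.ofBijective π.rangeRestrict ⟨hπinj, π.rangeRestrict_surjective⟩
  have hbot : Subgroup.center (Cfsg.SU 4 F 2) = ⊥ := Subgroup.eq_bot_of_card_eq _ hZ
  have hcenter : ρ.ker = Subgroup.center (Matrix.symplecticGroup (Fin 2) K) := by
    refine le_antisymm (fun g hg => ?_) fun g hg => ?_
    · obtain ⟨z, hz⟩ := hker g hg
      exact Subgroup.mem_center_iff.mpr fun k => Subtype.ext (by
        rw [Submonoid.coe_mul, Submonoid.coe_mul, hz]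
        simp)
    · have hc : (⟨ρ g, hgen g⟩ : π.range) ∈ Subgroup.center π.range := by
        refine Subgroup.mem_center_iff.mpr fun k => ?_
        obtain ⟨k', hk'⟩ : (k : Equiv.Perm (Fin 40)) ∈ ρ.range := by rw [heq]; exact k.2
        refine Subtype.ext ?_
        simp only [Subgroup.coe_mul]
        rw [← hk', ← map_mul, ← map_mul, Subgroup.mem_center_iff.mp hg k']
      have h1 : e1.symm ⟨ρ g, hgen g⟩ ∈ Subgroup.center (Cfsg.SU 4 F 2) := by
        refine Subgroup.mem_center_iff.mpr fun k => e1.injective ?_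
        rw [map_mul, map_mul, MulEquiv.apply_symm_apply]
        exact Subgroup.mem_center_iff.mp hc _
      rw [hbot, Subgroup.mem_bot] at h1
      have h2 := congrArg e1 h1
      rw [MulEquiv.apply_symm_apply, map_one] at h2
      exact congrArg Subtype.val h2
  exact ⟨((QuotientGroup.quotientMulEquivOfEq hbot).trans QuotientGroup.quotientBot).trans
    (e1.trans ((MulEquiv.subgroupCongr heq.symm).trans
      ((QuotientGroup.quotientKerEquivRange ρ).symm.trans (QuotientGroup.quotientMulEquivOfEq hcenter))))⟩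

end Cfsg.Agent.Classical.UFourTwo
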